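import Cfsg.Agent.H450.F4.ExTr
import Cfsg.Agent.H952.F4.Eig
import Cfsg.Agent.H952.F4.KillA

/-!
# S5926, task F-K1: the 7-elements in characteristic 5 (abstract form)
-/

set_option autoImplicit false

namespace Cfsg.Agent.H450.F4

open Cfsg Module
open Cfsg.Agent.H952.F4

section core

variable {p : ℕ} [Fact p.Prime] {K : Type*} [Field K] [IsAlgClosed K] [CharP K p]

omit [Fact p.Prime] [IsAlgClosed K] in
theorem natCast_ne {n : ℕ} (h : ¬ p ∣ n) : (n : K) ≠ 0 := by
  rw [Ne, CharP.cast_eq_zero_iff K p]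
  exact h

omit [IsAlgClosed K] in
theorem ne_zero_of {q : ℕ} (hq : q.Prime) (h : p ≠ q) : (q : K) ≠ 0 :=
  natCast_ne (p := p) fun h1 => h ((Nat.prime_dvd_prime_iff_eq Fact.out hq).1 h1)

variable {VL VJ : Type*} [AddCommGroup VL] [Module K VL] [FiniteDimensional K VL]
  [AddCommGroup VJ] [Module K VJ] [FiniteDimensional K VJ]

omit [IsAlgClosed K] in
theorem trace_inv_pow {W : Type*} [AddCommGroup W] [Module K W] [FiniteDimensional K W]
    (ρ : Representation K A7 W) {g : A7} (h7 : g ^ p = 1) :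
    LinearMap.trace K W (ρ g⁻¹) = LinearMap.trace K W (ρ g) := by
  have e1 := Eig.trace_pow_char p (ρ g)
  have e2 := Eig.trace_pow_char p (ρ g⁻¹)
  rw [← map_pow, h7] at e1
  rw [← map_pow, inv_pow, h7, inv_one] at e2
  exact frobenius_inj K p (e2.symm.trans e1)

omit [IsAlgClosed K] in
/-- traces of 7-cycles -/
theorem trace_inv_J {L : Representation K A7 VL} {J : Representation K A7 VJ} (T : Tab p L J)
    {g : A7} (hg : (g : Equiv.Perm (Fin 7)).cycleType = {7}) :
    LinearMap.trace K VJ (J g⁻¹) = LinearMap.trace K VJ (J g) ∧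
      LinearMap.trace K VL (L g⁻¹) = LinearMap.trace K VL (L g) := by
  obtain ⟨h1, h7, h, hh⟩ := rat_seven hg
  by_cases hp : p = 7
  · subst hp
    exact ⟨trace_inv_pow J h7, trace_inv_pow L h7⟩
  · obtain ⟨-, hL, hJ⟩ := T.seven_rat hp g h1 h7 ⟨h, hh⟩
    have h1' : g⁻¹ ≠ 1 := by
      intro h2
      exact h1 (inv_eq_one.1 h2)
    have h7' : g⁻¹ ^ 7 = 1 := by rw [inv_pow, h7, inv_one]
    obtain ⟨-, hL', hJ'⟩ := T.seven_rat hp g⁻¹ h1' h7' ⟨h, by
      rw [inv_pow, ← hh]; group⟩
    refine ⟨?_, hL'.trans hL.symm⟩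
    rw [ev_inv] at hJ'
    rcases hJ with ⟨a1, a2⟩ | ⟨a1, a2⟩ <;> rcases hJ' with ⟨b1, b2⟩ | ⟨b1, b2⟩
    · exact b2.trans a2.symm
    · omega
    · omega
    · exact b2.trans a2.symm

end core

section five

variable {K : Type*} [Field K]

/-- three eigenspaces -/
theorem ev_add_le {V : Type*} [AddCommGroup V] [Module K V] [FiniteDimensional K V]
    (T : Module.End K V) {a b c : K} (hab : a ≠ b) (hac : a ≠ c) (hbc : b ≠ c) :
    ev T a + ev T b + ev T c ≤ finrank K V := by
  have h0 := Module.End.eigenspaces_iSupIndep T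
  have h1 : Disjoint (T.eigenspace a) (T.eigenspace b) := h0.pairwiseDisjoint hab
  have h2 : Disjoint (T.eigenspace a ⊔ T.eigenspace b) (T.eigenspace c) := by
    refine ((h0 c).mono_right ?_).symm
    refine sup_le ?_ ?_
    · exact le_iSup₂_of_le a hac le_rfl
    · exact le_iSup₂_of_le b hbc le_rfl
  have e1 := Submodule.finrank_sup_add_finrank_inf_eq (T.eigenspace a) (T.eigenspace b)
  have e2 := Submodule.finrank_sup_add_finrank_inf_eq (T.eigenspace a ⊔ T.eigenspace b)
    (T.eigenspace c)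
  rw [h1.eq_bot, finrank_bot] at e1
  rw [h2.eq_bot, finrank_bot] at e2
  have e3 := Submodule.finrank_le (T.eigenspace a ⊔ T.eigenspace b ⊔ T.eigenspace c)
  unfold ev
  omega

variable {VL VJ : Type*} [AddCommGroup VL] [Module K VL] [FiniteDimensional K VL]
  [AddCommGroup VJ] [Module K VJ] [FiniteDimensional K VJ]

/-- the representation on the kernel of an invariant functional -/
def kerRep {J : Representation K A7 VJ} {τ : VJ →ₗ[K] K} (hτ : ∀ g x, τ (J g x) = τ x) :
    Representation K A7 (LinearMap.ker τ) where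
  toFun g := (J g).restrict (mapsTo_ker (hτ g))
  map_one' := by
    refine LinearMap.ext fun x => Subtype.ext ?_
    change J 1 (x : VJ) = x
    rw [map_one]
    rfl
  map_mul' g h := by
    refine LinearMap.ext fun x => Subtype.ext ?_
    change J (g * h) (x : VJ) = J g (J h x)
    rw [map_mul]
    rfl

variable [IsAlgClosed K] [CharP K 5]

/-- **The 7-elements in characteristic 5.** -/
theorem core_five {L : Representation K A7 VL} {J : Representation K A7 VJ} (T : Tab 5 L J)
    (hJ : finrank K VJ = 27) {τ : VJ →ₗ[K] K} (hτ : ∀ g x, τ (J g x) = τ x) {u : VJ}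
    (hu : τ u = 1) (hfix : ∀ g, J g u = u) {g : A7}
    (hg : (g : Equiv.Perm (Fin 7)).cycleType = {7}) : ev (J g) 1 = 9 := by
  have hF5 : Fact (Nat.Prime 5) := ⟨Nat.prime_five⟩
  have h50 : (5 : K) = 0 := by
    have := CharP.cast_eq_zero K 5
    exact_mod_cast this
  have h2 : (2 : K) ≠ 0 := by
    have := ne_zero_of (K := K) (p := 5) Nat.prime_two (by norm_num)
    exact_mod_cast this
  have h3 : (3 : K) ≠ 0 := by
    have := ne_zero_of (K := K) (p := 5) Nat.prime_three (by norm_num)
    exact_mod_cast this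
  have h7 : (7 : K) ≠ 0 := by
    have := ne_zero_of (K := K) (p := 5) (q := 7) (by norm_num) (by norm_num)
    exact_mod_cast this
  have hev7 : ∀ g : A7, (g : Equiv.Perm (Fin 7)).cycleType = {7} →
      ev (J g) 1 = ev (J e7) 1 := by
    intro g hg
    obtain ⟨x, rfl | rfl⟩ := conj_seven hg
    · rw [ev_conj]
    · rw [ev_conj, ev_inv]
  rw [hev7 g hg]
  obtain ⟨h1, h77, h, hh⟩ := rat_seven ct_7
  obtain ⟨-, -, hcase⟩ := T.seven_rat (by norm_num) e7 h1 h77 ⟨h, hh⟩
  rcases hcase with ⟨a1, a2⟩ | ⟨a1, a2⟩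
  swap
  · exact a1
  exfalso
  -- the kernel of `τ`
  have hdim : finrank K (LinearMap.ker τ) = 26 := by
    have e1 := τ.finrank_range_add_finrank_ker
    have e2 : LinearMap.range τ = ⊤ := by
      rw [LinearMap.range_eq_top]
      intro a
      exact ⟨a • u, by rw [map_smul, hu, smul_eq_mul, mul_one]⟩
    rw [e2, finrank_top, Module.finrank_self, hJ] at e1
    omega
  have hevk : ∀ g, ev (J g) 1 = ev (kerRep hτ g) 1 + 1 := fun g => ev_ker (hτ g) hu (hfix g)
  have htrk : ∀ g, LinearMap.trace K VJ (J g) =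
      LinearMap.trace K (LinearMap.ker τ) (kerRep hτ g) + 1 :=
    fun g => trace_ker (hτ g) hu (hfix g)
  -- elements of order 3
  have hy9 : ev (J ey) 1 = 9 := by
    have hy1 : ey ≠ 1 := by decide +kernel
    rcases T.three (by norm_num) ey hy1 y_pow with ⟨b, -⟩ | ⟨b, -⟩ | ⟨b, -⟩
    · exfalso
      obtain ⟨w, hw⟩ := IsAlgClosed.exists_pow_nat_eq (-3 : K) (n := 2) (by norm_num)
      have hw0 : w ≠ 0 := by
        rintro rfl
        apply h3
        linear_combination hw
      obtain ⟨i2, hi2⟩ : ∃ i2 : K, 2 * i2 = 1 := ⟨2⁻¹, mul_inv_cancel₀ h2⟩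
      set ω := (w - 1) * i2 with hω
      set ω' := (-w - 1) * i2 with hω'
      have e1 : ω ^ 2 + ω + 1 = 0 := by
        have : (2 : K) ^ 2 * (ω ^ 2 + ω + 1) = 0 := by
          rw [hω]
          linear_combination (((w - 1) ^ 2) * (2 * i2 + 1) + 2 * (w - 1)) * hi2 + hw
        exact (mul_eq_zero.1 this).resolve_left (pow_ne_zero _ h2)
      have e2 : ω' ^ 2 + ω' + 1 = 0 := by
        have : (2 : K) ^ 2 * (ω' ^ 2 + ω' + 1) = 0 := by
          rw [hω']
          linear_combination (((-w - 1) ^ 2) * (2 * i2 + 1) + 2 * (-w - 1)) * hi2 + hw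
        exact (mul_eq_zero.1 this).resolve_left (pow_ne_zero _ h2)
      have c1 : ω ^ 3 = 1 := by linear_combination (ω - 1) * e1
      have c2 : ω' ^ 3 = 1 := by linear_combination (ω' - 1) * e2
      have n1 : (1 : K) ≠ ω := by
        intro h4
        rw [← h4] at e1
        apply h3
        linear_combination e1
      have n2 : (1 : K) ≠ ω' := by
        intro h4
        rw [← h4] at e2
        apply h3
        linear_combination e2
      have n3 : ω ≠ ω' := by
        intro h4
        have : w * (2 * i2) = 0 := by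
          rw [hω, hω'] at h4
          linear_combination h4
        rw [hi2, mul_one] at this
        exact hw0 this
      have hord : orderOf ((2 : ℕ) : ZMod 7) = 3 := by
        rw [orderOf_eq_iff (by norm_num)]
        decide
      have f1 := Eig.frob J (by norm_num : Nat.Prime 7) (by exact_mod_cast h7) e7_pow y7 hord
        (by norm_num) y_pow c1
      have f2 := Eig.frob J (by norm_num : Nat.Prime 7) (by exact_mod_cast h7) e7_pow y7 hord
        (by norm_num) y_pow c2
      have f3 := ev_add_le (J ey) n1 n2 n3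
      omega
    · exact b
    · exact b
  have hzσ : ∀ g : A7, (g : Equiv.Perm (Fin 7)).cycleType = {7} → ev (kerRep hτ g) 1 = 2 := by
    intro g hg
    have := hevk g
    rw [hev7 g hg] at this
    omega
  have hcσ : ∀ g : A7, (g : Equiv.Perm (Fin 7)).cycleType = {3, 3} → ev (kerRep hτ g) 1 = 8 := by
    intro g hg
    obtain ⟨x, rfl⟩ := conj_y hg
    rw [ev_conj]
    have := hevk ey
    omega
  obtain ⟨t1, t2, t3, t33, t4, t6, t5, t7, TS⟩ := exists_tr_seven (kerRep hτ) fun g hg => by
    have e1 := htrk g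
    have e2 := htrk g⁻¹
    rw [(trace_inv_J T hg).1] at e2
    linear_combination e1 - e2
  have hrel := Kill.rel_73 (kerRep hτ) TS h3 h7 hzσ hcσ hdim
  have ht7 : t7 = -2 := by
    rw [← TS.seven e7 ct_7]
    have := htrk e7
    linear_combination a2 - this
  have ht5 : t5 = 1 := by
    have e1 := Eig.trace_pow_char 5 (kerRep hτ ez)
    rw [← map_pow, z_pow, map_one, LinearMap.trace_one, hdim, TS.five ez ct_z] at e1
    have e2 : t5 ^ 5 = 1 ^ 5 := by
      rw [← e1]
      push_cast
      linear_combination 5 * h50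
    exact frobenius_inj K 5 e2
  have ht2 : t2 = 2 ∨ t2 = -6 := by
    rw [← TS.two (ec * ec) ct_c2]
    have e1 := htrk (ec * ec)
    rcases T.two (by norm_num) (ec * ec) c_sq (by decide +kernel) with
      ⟨-, -, b, -⟩ | ⟨-, -, b, -⟩
    · left; linear_combination b - e1
    · right; linear_combination b - e1
  rw [ht5, ht7] at hrel
  rcases ht2 with ht2 | ht2
  · rw [ht2] at hrel
    exact pow_ne_zero 2 h2 (by linear_combination -hrel)
  · rw [ht2] at hrel
    exact h2 (by linear_combination -hrel - 2 * h50)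

end five

end Cfsg.Agent.H450.F4
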