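import Cfsg.Agent.H450.F4.CoreA
import Cfsg.Agent.H952.F4.KillB

/-!
# S5926, task F-K1: no `A₇` in characteristic not 2, 5 (abstract form)
-/

set_option autoImplicit false

namespace Cfsg.Agent.H450.F4

open Cfsg Module
open Cfsg.Agent.H952.F4

variable {p : ℕ} [Fact p.Prime] {K : Type*} [Field K] [IsAlgClosed K] [CharP K p]
  {VL VJ : Type*} [AddCommGroup VL] [Module K VL] [FiniteDimensional K VL]
  [AddCommGroup VJ] [Module K VJ] [FiniteDimensional K VJ]

/-- **No `A₇`.** -/
theorem core_seven (hp2 : p ≠ 2) (hp5 : p ≠ 5) {L : Representation K A7 VL}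
    {J : Representation K A7 VJ} (T : Tab p L J) (hL : finrank K VL = 52) (hJ : finrank K VJ = 27)
    {u : VJ} (hu : u ≠ 0) (hfix : ∀ g, J g u = u) : False := by
  have hpp : p.Prime := Fact.out
  have h2 : (2 : K) ≠ 0 := by exact_mod_cast ne_zero_of (K := K) (p := p) Nat.prime_two hp2
  have h5 : (5 : K) ≠ 0 := by exact_mod_cast ne_zero_of (K := K) (p := p) Nat.prime_five hp5
  obtain ⟨i, hi⟩ := IsAlgClosed.exists_eq_mul_self (-1 : K)
  have hi' : i * i = -1 := hi.symm
  -- 5-elements
  have hz5 : ∀ g : A7, (g : Equiv.Perm (Fin 7)).cycleType = {5} →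
      ev (J g) 1 = 7 ∧ ev (L g) 1 = 12 ∧ LinearMap.trace K VJ (J g) = 2 ∧
        LinearMap.trace K VL (L g) = 2 := fun g hg => by
    obtain ⟨h1, h3, h4⟩ := rat_five hg
    exact T.five_rat hp5 g h1 h3 h4
  obtain ⟨z1, z2, z3, z4⟩ := hz5 ez ct_z
  -- the Frobenius group
  have hord : orderOf ((2 : ℕ) : ZMod 5) = 4 := by
    rw [orderOf_eq_iff (by norm_num)]
    decide
  have fJ : ∀ μ : K, μ ^ 4 = 1 → 4 * ev (J ec) μ + 7 =
      4 * finrank K ↥(es (J ez) 1 ⊓ es (J ec) μ) + 27 := by
    intro μ hμ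
    have := Eig.frob J Nat.prime_five (by exact_mod_cast h5) z_pow cz hord (by norm_num) c_pow hμ
    rwa [z1, hJ] at this
  have fL : ∀ μ : K, μ ^ 4 = 1 → 4 * ev (L ec) μ + 12 =
      4 * finrank K ↥(es (L ez) 1 ⊓ es (L ec) μ) + 52 := by
    intro μ hμ
    have := Eig.frob L Nat.prime_five (by exact_mod_cast h5) z_pow cz hord (by norm_num) c_pow hμ
    rwa [z2, hL] at this
  have hneg : ((-1 : K)) ^ 4 = 1 := by norm_num
  have nJ : ev (J (ec * ec)) 1 = ev (J ec) 1 + ev (J ec) (-1) := by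
    rw [map_mul]; exact Eig.ev_neg h2 _
  have nL : ev (L (ec * ec)) 1 = ev (L ec) 1 + ev (L ec) (-1) := by
    rw [map_mul]; exact Eig.ev_neg h2 _
  -- the traces
  obtain ⟨l1, l2, l3, l33, l4, l6, l5, l7, TL⟩ := exists_tr_seven L fun g hg =>
    (trace_inv_J T hg).2
  obtain ⟨t1, t2, t3, t33, t4, t6, t5, t7, TJ⟩ := exists_tr_seven J fun g hg =>
    (trace_inv_J T hg).1
  have hl5 : l5 = 2 := by rw [← TL.five ez ct_z, z4]
  have ht5 : t5 = 2 := by rw [← TJ.five ez ct_z, z3]
  have ht1 : t1 = 27 := by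
    rw [← TJ.one, map_one, LinearMap.trace_one, hJ]; norm_num
  -- elements of order 3
  have h3ne : ∀ g : A7, ((g : Equiv.Perm (Fin 7)).cycleType = {3} ∨
      (g : Equiv.Perm (Fin 7)).cycleType = {3, 3}) → g ≠ 1 := by
    rintro g hg rfl
    change (1 : Equiv.Perm (Fin 7)).cycleType = {3} ∨ (1 : Equiv.Perm (Fin 7)).cycleType = {3, 3} at hg
    rw [Equiv.Perm.cycleType_one] at hg
    revert hg
    decide
  have hy1 : ey ≠ 1 := h3ne ey (Or.inr ct_y)
  have h31 : e3 ≠ 1 := h3ne e3 (Or.inl ct_3)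
  -- involutions
  have hinv : ec * ec * (ec * ec) = 1 := by decide +kernel
  have hc2 := T.two hp2 (ec * ec) c_sq hinv
  have hf := T.four hp2 ec c_sq c_pow
  have hJ1 := fJ 1 (one_pow _)
  have hJn := fJ (-1) hneg
  have hLn := fL (-1) hneg
  rcases hf with ⟨a1, a2, a3, a4, a5, a6⟩ | ⟨a1, a2, a3, a4, a5, a6⟩ | ⟨a1, a2, a3, a4, a5, a6⟩ |
    ⟨a1, a2, a3, a4, a5, a6⟩ | ⟨a1, a2, a3, a4, a5, a6⟩
  · -- (11, 5): the fixed vector
    rw [a3] at hJ1
    have h0 : finrank K ↥(es (J ez) 1 ⊓ es (J ec) 1) = 0 := by omega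
    rw [Submodule.finrank_eq_zero] at h0
    apply hu
    have hmem : u ∈ es (J ez) 1 ⊓ es (J ec) 1 := by
      refine ⟨mem_es.2 ?_, mem_es.2 ?_⟩
      · rw [hfix, one_smul]
      · rw [hfix, one_smul]
    rw [h0] at hmem
    exact (Submodule.mem_bot K).1 hmem
  · rw [a1, a3] at nJ; omega
  · -- the adjoint module
    rw [a2, a4] at nL
    have hev : ev (L ec) (-1) = 10 := by omega
    have hc : ∀ g : A7, (g : Equiv.Perm (Fin 7)).cycleType = {4, 2} → ev (L g) (-1) = 10 := by
      intro g hg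
      obtain ⟨x, rfl⟩ := conj_c hg
      rw [ev_conj]
      exact hev
    obtain ⟨r1, r2⟩ := Kill.rel_sgn_zero L TL h2 h5 (fun g hg => (hz5 g hg).2.1) hc hL
    have hl4 : l4 = 4 := by rw [← TL.four ec ct_c, a6]
    have hl2 : l2 = -4 := by
      rw [← TL.two (ec * ec) ct_c2]
      rcases hc2 with ⟨b1, b2, b3, b4⟩ | ⟨b1, b2, b3, b4⟩
      · exact b4
      · omega
    rw [hl2, hl4] at r1
    rw [hl4, hl5] at r2
    have hl6 : l6 = 8 := by
      have : 2 * (l6 - 8) = 0 := by linear_combination r1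
      exact sub_eq_zero.1 ((mul_eq_zero.1 this).resolve_left h2)
    have hl33 : l33 = 6 := by rw [hl6] at r2; linear_combination -r2
    by_cases hp3 : p = 3
    · subst hp3
      have e1 := Eig.trace_pow_char 3 (L ey)
      rw [← map_pow, y_pow, map_one, LinearMap.trace_one, hL, TL.threeb ey ct_y, hl33] at e1
      have h3 : (3 : K) = 0 := by
        have := CharP.cast_eq_zero K 3
        exact_mod_cast this
      have h4 : (1 : K) = 0 := by
        push_cast at e1
        linear_combination e1 + (72 - 17) * h3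
      exact one_ne_zero h4
    · have h3 : (3 : K) ≠ 0 := by exact_mod_cast ne_zero_of (K := K) (p := p) Nat.prime_three hp3
      rcases T.three hp3 ey hy1 y_pow with ⟨-, -, -, b⟩ | ⟨-, -, -, b⟩ | ⟨-, -, -, b⟩
      · rw [TL.threeb ey ct_y, hl33] at b
        have : (1 : K) = 0 := by linear_combination -b
        exact one_ne_zero this
      · rw [TL.threeb ey ct_y, hl33] at b
        have : (1 : K) = 0 := by linear_combination -b
        exact one_ne_zero this
      · rw [TL.threeb ey ct_y, hl33] at b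
        have h8 : (2 : K) ^ 3 = 0 := by linear_combination b
        exact h2 (pow_eq_zero_iff (by norm_num) |>.1 h8)
  · -- the 27-dimensional module
    rw [a1, a3] at nJ
    have hev : ev (J ec) (-1) = 6 := by omega
    have hevi : ev (J ec) i = 6 := by
      have e1 := Eig.ev_i h2 hi' (T := J ec) (by rw [← map_pow, c_pow, map_one])
      have e2 := T.four_i hp2 ec c_pow i hi'
      rw [← map_mul, a1, hJ, ← e2] at e1
      omega
    have hc : ∀ g : A7, (g : Equiv.Perm (Fin 7)).cycleType = {4, 2} →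
        ev (J g) (-1) = 6 ∧ ev (J g) i = 6 := by
      intro g hg
      obtain ⟨x, rfl⟩ := conj_c hg
      rw [ev_conj, ev_conj]
      exact ⟨hev, hevi⟩
    obtain ⟨r1, r2, r3, r4, r5⟩ :=
      Kill.rel_one J TJ h2 h5 hi' (fun g hg => (hz5 g hg).1) hc hJ
    have ht4 : t4 = 3 := by rw [← TJ.four ec ct_c, a5]
    have ht2 : t2 = 3 := by
      rw [← TJ.two (ec * ec) ct_c2]
      rcases hc2 with ⟨b1, b2, b3, b4⟩ | ⟨b1, b2, b3, b4⟩
      · exact b3
      · omega
    rw [ht1, ht2, ht4] at r1
    rw [ht2, ht4] at r2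
    rw [ht4, ht5] at r3
    rw [ht2, ht4, ht5] at r4 r5
    -- `t7 = 6`, `t3 + 4 t33 + 3 t6 = 36`
    have ht7 : t7 = 6 := by
      have : (2 : K) ^ 3 * (t7 - 6) = 0 := by linear_combination r2 - r1
      exact sub_eq_zero.1 ((mul_eq_zero.1 this).resolve_left (pow_ne_zero _ h2))
    have hS : t3 + 4 * t33 + 3 * t6 = 36 := by
      rw [ht7] at r1
      linear_combination -r1
    rw [ht7] at r4 r5
    have hw : (t3 - t6 - 6) * (t3 - t6) = 0 := by
      have : (2 : K) ^ 4 * ((t3 - t6 - 6) * (t3 - t6)) = 0 := by linear_combination r3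
      exact (mul_eq_zero.1 this).resolve_left (pow_ne_zero _ h2)
    by_cases hp3 : p = 3
    · subst hp3
      have h3 : (3 : K) = 0 := by
        have := CharP.cast_eq_zero K 3
        exact_mod_cast this
      have e1 := Eig.trace_pow_char 3 (J ey)
      rw [← map_pow, y_pow, map_one, LinearMap.trace_one, hJ, TJ.threeb ey ct_y] at e1
      have e2 := Eig.trace_pow_char 3 (J e3)
      rw [← map_pow, e3_pow, map_one, LinearMap.trace_one, hJ, TJ.three e3 ct_3] at e2
      have e3' := Eig.trace_pow_char 3 (J e6)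
      rw [← map_pow, TJ.two (e6 ^ 3) ct_63, TJ.six e6 ct_6, ht2] at e3'
      have h33 : t33 = 0 := by
        refine (pow_eq_zero_iff (n := 3) (by norm_num)).1 ?_
        rw [← e1]; push_cast; linear_combination 9 * h3
      have h30 : t3 = 0 := by
        refine (pow_eq_zero_iff (n := 3) (by norm_num)).1 ?_
        rw [← e2]; push_cast; linear_combination 9 * h3
      have h60 : t6 = 0 := by
        refine (pow_eq_zero_iff (n := 3) (by norm_num)).1 ?_
        rw [← e3']; exact h3
      rw [h33, h30, h60] at r4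
      have : (2 : K) = 0 := by linear_combination r4 - 130 * h3
      exact h2 this
    · have h3 : (3 : K) ≠ 0 := by exact_mod_cast ne_zero_of (K := K) (p := p) Nat.prime_three hp3
      have v3 : t3 = 9 ∨ t3 = 0 := by
        rcases T.three hp3 e3 h31 e3_pow with ⟨-, -, b, -⟩ | ⟨-, -, b, -⟩ | ⟨-, -, b, -⟩ <;>
          rw [TJ.three e3 ct_3] at b
        · exact Or.inl b
        · exact Or.inr b
        · exact Or.inr b
      have v33 : t33 = 9 ∨ t33 = 0 := by
        rcases T.three hp3 ey hy1 y_pow with ⟨-, -, b, -⟩ | ⟨-, -, b, -⟩ | ⟨-, -, b, -⟩ <;>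
          rw [TJ.threeb ey ct_y] at b
        · exact Or.inl b
        · exact Or.inr b
        · exact Or.inr b
      have n9 : (3 : K) ^ 2 ≠ 0 := pow_ne_zero _ h3
      have n72 : (2 : K) ^ 3 * 3 ^ 2 ≠ 0 := mul_ne_zero (pow_ne_zero _ h2) n9
      have n27 : (3 : K) ^ 3 ≠ 0 := pow_ne_zero _ h3
      rcases mul_eq_zero.1 hw with hw | hw
      · -- `t6 = t3 - 6`
        have h6 : t6 = t3 - 6 := by linear_combination -hw
        rw [h6] at hS
        -- `4 (t3 + t33) = 54`
        rcases v3 with v3 | v3 <;> rcases v33 with v33 | v33 <;> rw [v3, v33] at hS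
        · exact mul_ne_zero h2 n9 (by linear_combination hS)
        · exact mul_ne_zero h2 n9 (by linear_combination -hS)
        · exact mul_ne_zero h2 n9 (by linear_combination -hS)
        · exact mul_ne_zero h2 n27 (by linear_combination -hS)
      · have h6 : t6 = t3 := by linear_combination -hw
        rw [h6] at hS
        rcases v3 with v3 | v3 <;> rcases v33 with v33 | v33 <;> rw [v3, v33] at hS
        · exact mul_ne_zero (pow_ne_zero 2 h2) n9 (by linear_combination hS)
        · rw [h6, v3, v33] at r5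
          exact n72 (by linear_combination r5)
        · rw [h6, v3, v33] at r5
          exact n72 (by linear_combination r5)
        · exact mul_ne_zero (pow_ne_zero 2 h2) n9 (by linear_combination -hS)
  · rw [a1, a3] at nJ; omega

end Cfsg.Agent.H450.F4
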