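import Cfsg.Agent.H952.F4.Defs2

/-!
# S5926, task F-K1: elements of `A₇` and representations

* elements `ez` (5), `ec` (4,2), `e3`, `e33`, `e6`, `e7`, `ey`;
* conjugacy in `A₇`;
* `ev` and traces under conjugation, inverses; the kernel of an invariant functional;
* `Tab.comp`.
-/

set_option autoImplicit false

namespace Cfsg.Agent.H450.F4

open Cfsg Module
open Cfsg.Agent.H952.F4
open Equiv (swap)
open Equiv.Perm (sign)

abbrev A7 : Type := ↥(alternatingGroup (Fin 7))

/-- `0 → 1 → 2 → 3 → 4 → 0` -/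
def ez : A7 := ⟨swap 0 1 * swap 1 2 * swap 2 3 * swap 3 4, by
  rw [Equiv.Perm.mem_alternatingGroup]; decide⟩
/-- `(1 2 4 3)(5 6)` -/
def ec : A7 := ⟨swap 1 2 * swap 2 4 * swap 4 3 * swap 5 6, by
  rw [Equiv.Perm.mem_alternatingGroup]; decide⟩
/-- `(0 1 2)` -/
def e3 : A7 := ⟨swap 0 1 * swap 1 2, by rw [Equiv.Perm.mem_alternatingGroup]; decide⟩
/-- `(1 2 4)(3 6 5)` -/
def ey : A7 := ⟨swap 1 2 * swap 2 4 * (swap 3 6 * swap 6 5), by
  rw [Equiv.Perm.mem_alternatingGroup]; decide⟩
/-- `(0 1 2)(3 4)(5 6)` -/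
def e6 : A7 := ⟨swap 0 1 * swap 1 2 * (swap 3 4 * swap 5 6), by
  rw [Equiv.Perm.mem_alternatingGroup]; decide⟩
/-- `i → i + 1` -/
def e7 : A7 := ⟨finRotate 7, by rw [Equiv.Perm.mem_alternatingGroup]; decide⟩

theorem ct_z : (ez : Equiv.Perm (Fin 7)).cycleType = {5} := by decide +kernel
theorem ct_c : (ec : Equiv.Perm (Fin 7)).cycleType = {4, 2} := by decide +kernel
theorem ct_c2 : ((ec * ec : A7) : Equiv.Perm (Fin 7)).cycleType = {2, 2} := by decide +kernel
theorem ct_3 : (e3 : Equiv.Perm (Fin 7)).cycleType = {3} := by decide +kernel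
theorem ct_y : (ey : Equiv.Perm (Fin 7)).cycleType = {3, 3} := by decide +kernel
theorem ct_6 : (e6 : Equiv.Perm (Fin 7)).cycleType = {3, 2, 2} := by decide +kernel
theorem ct_63 : ((e6 ^ 3 : A7) : Equiv.Perm (Fin 7)).cycleType = {2, 2} := by decide +kernel
theorem ct_7 : (e7 : Equiv.Perm (Fin 7)).cycleType = {7} := by decide +kernel

theorem cz : ec * ez * ec⁻¹ = ez ^ 2 := by decide +kernel
theorem y7 : ey * e7 * ey⁻¹ = e7 ^ 2 := by decide +kernel
theorem z_pow : ez ^ 5 = 1 := by decide +kernel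
theorem c_pow : ec ^ 4 = 1 := by decide +kernel
theorem c_sq : ec * ec ≠ 1 := by decide +kernel
theorem y_pow : ey ^ 3 = 1 := by decide +kernel
theorem e3_pow : e3 ^ 3 = 1 := by decide +kernel
theorem e7_pow : e7 ^ 7 = 1 := by decide +kernel

/-- conjugacy in `A₇` for the classes which do not split -/
theorem conj_of {r : A7} {o : Equiv.Perm (Fin 7)} (ho : sign o = -1)
    (hor : o * (r : Equiv.Perm (Fin 7)) = (r : Equiv.Perm (Fin 7)) * o) {g : A7}
    (hg : (g : Equiv.Perm (Fin 7)).cycleType = (r : Equiv.Perm (Fin 7)).cycleType) :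
    ∃ x : A7, x * r * x⁻¹ = g := by
  obtain ⟨s, hs⟩ := isConj_iff.1 (Equiv.Perm.isConj_iff_cycleType_eq.2 hg.symm)
  rcases Int.units_eq_one_or (sign s) with h1 | h1
  · exact ⟨⟨s, Equiv.Perm.mem_alternatingGroup.2 h1⟩, Subtype.ext hs⟩
  · refine ⟨⟨s * o, Equiv.Perm.mem_alternatingGroup.2 (by rw [map_mul, h1, ho]; decide)⟩,
      Subtype.ext ?_⟩
    change s * o * (r : Equiv.Perm (Fin 7)) * (s * o)⁻¹ = g
    rw [mul_assoc s, hor, mul_inv_rev, ← hs]
    group

theorem conj_z {g : A7} (hg : (g : Equiv.Perm (Fin 7)).cycleType = {5}) :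
    ∃ x : A7, x * ez * x⁻¹ = g :=
  conj_of (o := swap 5 6) (by decide) (by decide) (hg.trans ct_z.symm)

theorem conj_c {g : A7} (hg : (g : Equiv.Perm (Fin 7)).cycleType = {4, 2}) :
    ∃ x : A7, x * ec * x⁻¹ = g :=
  conj_of (o := swap 5 6) (by decide) (by decide) (hg.trans ct_c.symm)

theorem conj_y {g : A7} (hg : (g : Equiv.Perm (Fin 7)).cycleType = {3, 3}) :
    ∃ x : A7, x * ey * x⁻¹ = g :=
  conj_of (o := swap 1 3 * swap 2 6 * swap 4 5) (by decide) (by decide) (hg.trans ct_y.symm)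

/-- elements of order 5 are rational -/
theorem rat_five {g : A7} (hg : (g : Equiv.Perm (Fin 7)).cycleType = {5}) :
    g ≠ 1 ∧ g ^ 5 = 1 ∧ ∃ h : A7, h * g * h⁻¹ = g ^ 2 := by
  obtain ⟨x, rfl⟩ := conj_z hg
  refine ⟨?_, ?_, x * ec * x⁻¹, ?_⟩
  · intro h
    have h1 : ((x * ez * x⁻¹ : A7) : Equiv.Perm (Fin 7)) = 1 := congrArg Subtype.val h
    rw [h1, Equiv.Perm.cycleType_one] at hg
    exact absurd hg (by decide)
  · rw [conj_pow, z_pow]; group
  · rw [conj_pow, ← cz]; group

/-- 7-cycles -/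
theorem conj_seven {g : A7} (hg : (g : Equiv.Perm (Fin 7)).cycleType = {7}) :
    ∃ x : A7, x * e7 * x⁻¹ = g ∨ x * e7⁻¹ * x⁻¹ = g := by
  obtain ⟨s, hs⟩ := isConj_iff.1 (Equiv.Perm.isConj_iff_cycleType_eq.2 (ct_7.trans hg.symm))
  rcases Int.units_eq_one_or (sign s) with h1 | h1
  · exact ⟨⟨s, Equiv.Perm.mem_alternatingGroup.2 h1⟩, Or.inl (Subtype.ext hs)⟩
  · refine ⟨⟨s * (swap 1 6 * swap 2 5 * swap 3 4), Equiv.Perm.mem_alternatingGroup.2 (by
      rw [map_mul, h1]; decide)⟩, Or.inr (Subtype.ext ?_)⟩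
    change s * (swap 1 6 * swap 2 5 * swap 3 4) * ((e7⁻¹ : A7) : Equiv.Perm (Fin 7)) *
      (s * (swap 1 6 * swap 2 5 * swap 3 4))⁻¹ = (g : Equiv.Perm (Fin 7))
    have h2 : (swap 1 6 * swap 2 5 * swap 3 4) * ((e7⁻¹ : A7) : Equiv.Perm (Fin 7)) =
      (e7 : Equiv.Perm (Fin 7)) * (swap 1 6 * swap 2 5 * swap 3 4) := by decide +kernel
    rw [mul_assoc s, h2, mul_inv_rev, ← hs]
    group

/-- elements of order 7 -/
theorem rat_seven {g : A7} (hg : (g : Equiv.Perm (Fin 7)).cycleType = {7}) :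
    g ≠ 1 ∧ g ^ 7 = 1 ∧ ∃ h : A7, h * g * h⁻¹ = g ^ 2 := by
  have key := conj_seven hg
  refine ⟨?_, ?_, ?_⟩
  · rintro rfl
    change (1 : Equiv.Perm (Fin 7)).cycleType = {7} at hg
    rw [Equiv.Perm.cycleType_one] at hg
    exact absurd hg (by decide)
  · obtain ⟨x, rfl | rfl⟩ := key
    · rw [conj_pow, e7_pow]; group
    · rw [conj_pow, inv_pow, e7_pow]; group
  · obtain ⟨x, rfl | rfl⟩ := key
    · exact ⟨x * ey * x⁻¹, by rw [conj_pow, ← y7]; group⟩
    · exact ⟨x * ey * x⁻¹, by rw [conj_pow, inv_pow, ← y7]; group⟩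

theorem ct_of_order {g : A7} (hg : orderOf g = 7) : (g : Equiv.Perm (Fin 7)).cycleType = {7} := by
  have h1 : orderOf (g : Equiv.Perm (Fin 7)) = 7 := by
    rw [Subgroup.orderOf_coe]; exact hg
  obtain ⟨n, hn⟩ := Equiv.Perm.cycleType_prime_order (σ := (g : Equiv.Perm (Fin 7))) (by
    rw [h1]; norm_num)
  have h2 := Equiv.Perm.sum_cycleType_le (g : Equiv.Perm (Fin 7))
  rw [hn, h1, Multiset.sum_replicate, Fintype.card_fin] at h2
  have h3 : n = 0 := by
    simp only [smul_eq_mul] at h2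
    omega
  rw [hn, h3, h1]
  rfl

/-! ### representations -/

section rep

variable {K V G : Type*} [Field K] [AddCommGroup V] [Module K V] [Group G]

theorem mem_es {T : V →ₗ[K] V} {μ : K} {v : V} : v ∈ es T μ ↔ T v = μ • v :=
  Module.End.mem_eigenspace_iff

theorem ev_conj (ρ : Representation K G V) (x g : G) (μ : K) :
    ev (ρ (x * g * x⁻¹)) μ = ev (ρ g) μ := by
  let e : V ≃ₗ[K] V := LinearEquiv.ofLinearMap (ρ x) (ρ x⁻¹)
    (by rw [← Module.End.mul_eq_comp, ← map_mul, mul_inv_cancel, map_one]; rfl)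
    (by rw [← Module.End.mul_eq_comp, ← map_mul, inv_mul_cancel, map_one]; rfl)
  have h1 : (Module.End.eigenspace (ρ g) μ).map (e : V →ₗ[K] V) =
      Module.End.eigenspace (ρ (x * g * x⁻¹)) μ := by
    ext v
    rw [Submodule.mem_map, Module.End.mem_eigenspace_iff]
    constructor
    · rintro ⟨w, hw, rfl⟩
      rw [Module.End.mem_eigenspace_iff] at hw
      change ρ (x * g * x⁻¹) (ρ x w) = μ • ρ x w
      rw [← Module.End.mul_apply, ← map_mul, inv_mul_cancel_right, map_mul, Module.End.mul_apply,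
        hw, map_smul]
    · intro hv
      refine ⟨ρ x⁻¹ v, ?_, ?_⟩
      · rw [Module.End.mem_eigenspace_iff, ← Module.End.mul_apply, ← map_mul,
          show g * x⁻¹ = x⁻¹ * (x * g * x⁻¹) by group, map_mul, Module.End.mul_apply, hv, map_smul]
      · change ρ x (ρ x⁻¹ v) = v
        rw [← Module.End.mul_apply, ← map_mul, mul_inv_cancel, map_one]
        rfl
  unfold ev
  rw [← h1]
  exact LinearEquiv.finrank_map_eq e _

theorem ev_inv (ρ : Representation K G V) (g : G) : ev (ρ g⁻¹) 1 = ev (ρ g) 1 := by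
  have h1 : Module.End.eigenspace (ρ g⁻¹) 1 = Module.End.eigenspace (ρ g) 1 := by
    ext v
    rw [Module.End.mem_eigenspace_iff, Module.End.mem_eigenspace_iff, one_smul]
    constructor
    · intro h
      conv_lhs => rw [← h]
      rw [← Module.End.mul_apply, ← map_mul, mul_inv_cancel, map_one]
      rfl
    · intro h
      conv_lhs => rw [← h]
      rw [← Module.End.mul_apply, ← map_mul, inv_mul_cancel, map_one]
      rfl
  unfold ev
  rw [h1]

/-- class tables pass to injective homomorphisms -/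
theorem tab_comp {p : ℕ} {VL VJ H : Type*} [AddCommGroup VL] [Module K VL] [AddCommGroup VJ]
    [Module K VJ] [Group H] {L : Representation K G VL} {J : Representation K G VJ}
    (h : Tab p L J) (φ : H →* G) (hφ : Function.Injective φ) :
    Tab p (MonoidHom.comp L φ : Representation K H VL)
      (MonoidHom.comp J φ : Representation K H VJ) := by
  have h1 : ∀ x : H, x ≠ 1 → φ x ≠ 1 := fun x hx h2 => hx (hφ (h2.trans (map_one φ).symm))
  refine ⟨fun hp x hx hx2 => ?_, fun hp x hx hx3 => ?_, fun hp x hx hx4 => ?_,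
    fun hp x hx4 i hi => ?_, fun hp x hx hx5 => ?_, fun hp x hx hx5 hr => ?_,
    fun hp x hx hx7 hr => ?_⟩
  · exact h.two hp (φ x) (h1 x hx) (by rw [← map_mul, hx2, map_one])
  · exact h.three hp (φ x) (h1 x hx) (by rw [← map_pow, hx3, map_one])
  · have h2 := h.four hp (φ x) (by rw [← map_mul]; exact h1 _ hx) (by rw [← map_pow, hx4, map_one])
    rw [← map_mul φ x x] at h2
    exact h2
  · exact h.four_i hp (φ x) (by rw [← map_pow, hx4, map_one]) i hi
  · exact h.five hp (φ x) (h1 x hx) (by rw [← map_pow, hx5, map_one])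
  · obtain ⟨g, hg⟩ := hr
    exact h.five_rat hp (φ x) (h1 x hx) (by rw [← map_pow, hx5, map_one])
      ⟨φ g, by rw [← map_inv, ← map_mul, ← map_mul, ← map_pow, hg]⟩
  · obtain ⟨g, hg⟩ := hr
    exact h.seven_rat hp (φ x) (h1 x hx) (by rw [← map_pow, hx7, map_one])
      ⟨φ g, by rw [← map_inv, ← map_mul, ← map_mul, ← map_pow, hg]⟩

end rep

/-! ### the kernel of an invariant functional -/

section ker

variable {K V : Type*} [Field K] [AddCommGroup V] [Module K V]

theorem mapsTo_ker {T : V →ₗ[K] V} {τ : V →ₗ[K] K} (hτ : ∀ x, τ (T x) = τ x) :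
    ∀ x ∈ LinearMap.ker τ, T x ∈ LinearMap.ker τ := by
  intro x hx
  rw [LinearMap.mem_ker] at hx ⊢
  rw [hτ, hx]

theorem trace_ker [FiniteDimensional K V] {T : V →ₗ[K] V} {τ : V →ₗ[K] K}
    (hτ : ∀ x, τ (T x) = τ x) {u : V} (hu : τ u = 1) (hTu : T u = u) :
    LinearMap.trace K V T =
      LinearMap.trace K (LinearMap.ker τ) (T.restrict (mapsTo_ker hτ)) + 1 := by
  let e : V ≃ₗ[K] (LinearMap.ker τ) × K :=
    { toFun := fun x => (⟨x - τ x • u, by
        rw [LinearMap.mem_ker, map_sub, map_smul, hu, smul_eq_mul, mul_one, sub_self]⟩, τ x)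
      map_add' := fun x y => by
        refine Prod.ext (Subtype.ext ?_) (map_add τ x y)
        change x + y - τ (x + y) • u = (x - τ x • u) + (y - τ y • u)
        rw [map_add, add_smul]; abel
      map_smul' := fun a x => by
        refine Prod.ext (Subtype.ext ?_) (map_smul τ a x)
        change a • x - τ (a • x) • u = a • (x - τ x • u)
        rw [map_smul, smul_sub, smul_smul, smul_eq_mul]
      invFun := fun y => y.1 + y.2 • u
      left_inv := fun x => by
        change x - τ x • u + τ x • u = x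
        rw [sub_add_cancel]
      right_inv := fun y => by
        have h1 : τ ((y.1 : V) + y.2 • u) = y.2 := by
          rw [map_add, map_smul, hu, LinearMap.mem_ker.1 y.1.2, zero_add, smul_eq_mul, mul_one]
        refine Prod.ext (Subtype.ext ?_) h1
        change (y.1 : V) + y.2 • u - τ ((y.1 : V) + y.2 • u) • u = y.1
        rw [h1, add_sub_cancel_right] }
  have h1 : e.conj T = LinearMap.prodMap (T.restrict (mapsTo_ker hτ)) LinearMap.id := by
    refine LinearMap.ext fun y => ?_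
    rw [LinearEquiv.conj_apply_apply]
    have h2 : T (e.symm y) = T y.1 + y.2 • u := by
      change T ((y.1 : V) + y.2 • u) = _
      rw [map_add, map_smul, hTu]
    have h3 : τ (T (e.symm y)) = y.2 := by
      rw [hτ]
      change τ ((y.1 : V) + y.2 • u) = y.2
      rw [map_add, map_smul, hu, LinearMap.mem_ker.1 y.1.2, zero_add, smul_eq_mul, mul_one]
    refine Prod.ext (Subtype.ext ?_) h3
    change T (e.symm y) - τ (T (e.symm y)) • u = T y.1
    rw [h3, h2, add_sub_cancel_right]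
  rw [← LinearMap.trace_conj' T e, h1, LinearMap.trace_prodMap', LinearMap.trace_id,
    Module.finrank_self, Nat.cast_one]

theorem ev_ker [FiniteDimensional K V] {T : V →ₗ[K] V} {τ : V →ₗ[K] K}
    (hτ : ∀ x, τ (T x) = τ x) {u : V} (hu : τ u = 1) (hTu : T u = u) :
    ev T 1 = ev (T.restrict (mapsTo_ker hτ)) 1 + 1 := by
  let E := Module.End.eigenspace T (1 : K)
  let f : E →ₗ[K] K := τ.comp E.subtype
  have h1 := f.finrank_range_add_finrank_ker
  have h2 : LinearMap.range f = ⊤ := by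
    rw [LinearMap.range_eq_top]
    intro a
    refine ⟨⟨a • u, ?_⟩, ?_⟩
    · rw [Module.End.mem_eigenspace_iff, map_smul, hTu, one_smul]
    · change τ (a • u) = a
      rw [map_smul, hu, smul_eq_mul, mul_one]
  rw [h2, finrank_top, Module.finrank_self] at h1
  have h3 : finrank K (LinearMap.ker f) =
      finrank K (Module.End.eigenspace (T.restrict (mapsTo_ker hτ)) (1 : K)) := by
    refine LinearEquiv.finrank_eq
      { toFun := fun x => ⟨⟨x.1.1, x.2⟩, ?_⟩
        map_add' := fun _ _ => rfl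
        map_smul' := fun _ _ => rfl
        invFun := fun y => ⟨⟨y.1.1, ?_⟩, y.1.2⟩
        left_inv := fun _ => rfl
        right_inv := fun _ => rfl }
    · rw [Module.End.mem_eigenspace_iff]
      have := Module.End.mem_eigenspace_iff.1 x.1.2
      exact Subtype.ext this
    · have := Module.End.mem_eigenspace_iff.1 y.2
      rw [Module.End.mem_eigenspace_iff]
      exact congrArg Subtype.val this
  change finrank K E = _
  rw [← h1, h3, add_comm]
  rfl

end ker

end Cfsg.Agent.H450.F4
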