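import Cfsg.Agent.H450.F4.Elts

/-!
# S5926: the traces of a representation of `A₇` (7-cycles: `tr g⁻¹ = tr g`)
-/

set_option autoImplicit false

namespace Cfsg.Agent.H450.F4

open Cfsg Module
open Cfsg.Agent.H952.F4
open Equiv (swap)

variable {K V : Type*} [Field K] [AddCommGroup V] [Module K V]

theorem trace_conj_rep (ρ : Representation K A7 V) (x g : A7) :
    LinearMap.trace K V (ρ (x * g * x⁻¹)) = LinearMap.trace K V (ρ g) := by
  rw [map_mul, LinearMap.trace_mul_comm, ← map_mul, inv_mul_cancel_left]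

/-- the class `{2,2}` -/
theorem conj_two {g : A7} (hg : (g : Equiv.Perm (Fin 7)).cycleType = {2, 2}) :
    ∃ x : A7, x * (ec * ec) * x⁻¹ = g :=
  conj_of (o := swap 5 6) (by decide) (by decide) (hg.trans ct_c2.symm)

theorem conj_three {g : A7} (hg : (g : Equiv.Perm (Fin 7)).cycleType = {3}) :
    ∃ x : A7, x * e3 * x⁻¹ = g :=
  conj_of (o := swap 5 6) (by decide) (by decide) (hg.trans ct_3.symm)

theorem conj_six {g : A7} (hg : (g : Equiv.Perm (Fin 7)).cycleType = {3, 2, 2}) :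
    ∃ x : A7, x * e6 * x⁻¹ = g :=
  conj_of (o := swap 5 6) (by decide) (by decide) (hg.trans ct_6.symm)

/-- the traces exist as soon as `tr g⁻¹ = tr g` for 7-cycles -/
theorem exists_tr_seven (ρ : Representation K A7 V)
    (h : ∀ g : A7, (g : Equiv.Perm (Fin 7)).cycleType = {7} →
      LinearMap.trace K V (ρ g⁻¹) = LinearMap.trace K V (ρ g)) :
    ∃ t1 t2 t3 t33 t4 t6 t5 t7 : K, Tr ρ t1 t2 t3 t33 t4 t6 t5 t7 := by
  refine ⟨LinearMap.trace K V (ρ 1), LinearMap.trace K V (ρ (ec * ec)),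
    LinearMap.trace K V (ρ e3), LinearMap.trace K V (ρ ey), LinearMap.trace K V (ρ ec),
    LinearMap.trace K V (ρ e6), LinearMap.trace K V (ρ ez), LinearMap.trace K V (ρ e7),
    rfl, ?_, ?_, ?_, ?_, ?_, ?_, ?_⟩
  · intro g hg
    obtain ⟨x, rfl⟩ := conj_two hg
    exact trace_conj_rep ρ x _
  · intro g hg
    obtain ⟨x, rfl⟩ := conj_three hg
    exact trace_conj_rep ρ x _
  · intro g hg
    obtain ⟨x, rfl⟩ := conj_y hg
    exact trace_conj_rep ρ x _
  · intro g hg
    obtain ⟨x, rfl⟩ := conj_c hg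
    exact trace_conj_rep ρ x _
  · intro g hg
    obtain ⟨x, rfl⟩ := conj_six hg
    exact trace_conj_rep ρ x _
  · intro g hg
    obtain ⟨x, rfl⟩ := conj_z hg
    exact trace_conj_rep ρ x _
  · intro g hg
    obtain ⟨x, rfl | rfl⟩ := conj_seven hg
    · exact trace_conj_rep ρ x _
    · rw [trace_conj_rep]
      exact h e7 ct_7

end Cfsg.Agent.H450.F4
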